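import Cfsg.Agent.HexModel.G2
import Cfsg.Agent.Hexagon.TwD4Par
import Cfsg.Agent.ChevalleyStructure.D4HConj

/-!
# The model `³D₄(q)` of `HexTwo` in characteristic two, in the group of matrices
-/

set_option autoImplicit false

namespace Cfsg.Agent.HexModel.D4

open Cfsg.Lie Cfsg.Agent.StdRank2.Hex Cfsg.Agent.SplitTwo
open Cfsg.Agent.ChevalleyStructure
open Cfsg.Agent.ChevalleyStructure.D4Comm
open Cfsg.Agent.ChevalleyStructure.D4NCheck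
open Cfsg.Agent.ChevalleyStructure.D4NConj
open Cfsg.Agent.ChevalleyStructure.D4HConj
open Cfsg.Agent.ChevalleyStructure.D4U
open Cfsg.Agent.ChevalleyStructure.D4RGD
open Cfsg.Agent.ChevalleyStructure.D4Twisted
open Cfsg.Agent.ChevalleyStructure.SparseHDiag
open Cfsg.Agent.Hexagon.TwD4Rel Cfsg.Agent.Hexagon.TwD4Par
open Cfsg.Agent.HexModel.G2 (neg_self cases12 cL cL_eq)

/-- the roots of the `k`-th class -/
def r0 (k : ZMod 12) : ℕ := [9, 18, 22, 17, 23, 19, 14, 5, 1, 6, 0, 4].getD k.val 0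
def r1 (k : ZMod 12) : ℕ := [9, 13, 22, 20, 23, 16, 14, 10, 1, 3, 0, 7].getD k.val 0
def r2 (k : ZMod 12) : ℕ := [9, 12, 22, 21, 23, 15, 14, 11, 1, 2, 0, 8].getD k.val 0

theorem r_lt : ∀ k : ZMod 12, r0 k < 24 ∧ r1 k < 24 ∧ r2 k < 24 := by decide +kernel

theorem r_opp : ∀ k : ZMod 12, r0 (k + 6) = 23 - r0 k ∧ r1 (k + 6) = 23 - r1 k ∧ r2 (k + 6) = 23 - r2 k := by
  decide +kernel

theorem r_a : ∀ k : ZMod 12, rfl' 1 (r0 k) = r0 (6 - k) ∧ rfl' 1 (r1 k) = r1 (6 - k) ∧ rfl' 1 (r2 k) = r2 (6 - k) := by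
  decide +kernel

theorem r_b : ∀ k : ZMod 12, rb (r0 k) = r0 (8 - k) ∧ rb (r1 k) = r1 (8 - k) ∧ rb (r2 k) = r2 (8 - k) := by
  decide +kernel

/-- exponents of `chS` -/
def e0 (d : ZMod 12) : ℤ := [2, 1, -1, 0, 1, -1, -2, -1, 1, 0, -1, 1].getD d.val 0
def e1 (d : ZMod 12) : ℤ := [0, 1, 1, 0, -1, -1, 0, -1, -1, 0, 1, 1].getD d.val 0

theorem A0 : ∀ k : ZMod 12, cartanRS chevD4 18 (r0 k) = e0 (k - 1) ∧ cartanRS chevD4 13 (r0 k) = e1 (k - 1) ∧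
    cartanRS chevD4 12 (r0 k) = e1 (k - 1) := by
  decide +kernel
theorem A1 : ∀ k : ZMod 12, k.val % 2 = 1 → cartanRS chevD4 13 (r1 k) = e0 (k - 1) ∧
    cartanRS chevD4 12 (r1 k) = e1 (k - 1) ∧ cartanRS chevD4 18 (r1 k) = e1 (k - 1) := by
  decide +kernel
theorem A2 : ∀ k : ZMod 12, k.val % 2 = 1 → cartanRS chevD4 12 (r2 k) = e0 (k - 1) ∧
    cartanRS chevD4 18 (r2 k) = e1 (k - 1) ∧ cartanRS chevD4 13 (r2 k) = e1 (k - 1) := by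
  decide +kernel
theorem AL : ∀ k : ZMod 12, cartanRS chevD4 14 (r0 k) = cL (k - 6) ∧ cartanRS chevD4 14 (r1 k) = cL (k - 6) ∧
    cartanRS chevD4 14 (r2 k) = cL (k - 6) := by
  decide +kernel

variable {K : Type*} [Field K]

theorem chS_eq {σ : K ≃+* K} {t : K} (ht : t ≠ 0) (d : ZMod 12) :
    chS σ d t = t ^ e0 d * ((σ t) ^ e1 d * (σ (σ t)) ^ e1 d) := by
  have h1 : σ t ≠ 0 := (map_ne_zero σ).2 ht
  have h2 : σ (σ t) ≠ 0 := (map_ne_zero σ).2 h1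
  have m2 : ∀ a : K, a ^ (2 : ℤ) = a ^ 2 := fun a => zpow_ofNat a 2
  have m2' : ∀ a : K, a ^ (-2 : ℤ) = (a ^ 2)⁻¹ := fun a => by
    rw [zpow_neg, show (2 : ℤ) = ((2 : ℕ) : ℤ) from rfl, zpow_natCast]
  have m1 : ∀ a : K, a ^ (1 : ℤ) = a := fun a => zpow_one a
  have m1' : ∀ a : K, a ^ (-1 : ℤ) = a⁻¹ := fun a => zpow_neg_one a
  have m0 : ∀ a : K, a ^ (0 : ℤ) = 1 := fun a => zpow_zero a
  rcases cases12 d with rfl | rfl | rfl | rfl | rfl | rfl | rfl | rfl | rfl | rfl | rfl | rfl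
  · show t ^ 2 = t ^ (2 : ℤ) * ((σ t) ^ (0 : ℤ) * (σ (σ t)) ^ (0 : ℤ))
    rw [m2, m0, m0, mul_one, mul_one]
  · show nrm σ t = t ^ (1 : ℤ) * ((σ t) ^ (1 : ℤ) * (σ (σ t)) ^ (1 : ℤ))
    rw [m1, m1, m1, nrm, mul_assoc]
  · show t⁻¹ * shp σ t = t ^ (-1 : ℤ) * ((σ t) ^ (1 : ℤ) * (σ (σ t)) ^ (1 : ℤ))
    rw [m1', m1, m1, shp]
  · show 1 = t ^ (0 : ℤ) * ((σ t) ^ (0 : ℤ) * (σ (σ t)) ^ (0 : ℤ))
    rw [m0, m0, m0, mul_one, mul_one]
  · show t * (shp σ t)⁻¹ = t ^ (1 : ℤ) * ((σ t) ^ (-1 : ℤ) * (σ (σ t)) ^ (-1 : ℤ))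
    rw [m1, m1', m1', shp, mul_inv]
  · show (nrm σ t)⁻¹ = t ^ (-1 : ℤ) * ((σ t) ^ (-1 : ℤ) * (σ (σ t)) ^ (-1 : ℤ))
    rw [m1', m1', m1', nrm, mul_assoc, mul_inv, mul_inv]
  · show (t ^ 2)⁻¹ = t ^ (-2 : ℤ) * ((σ t) ^ (0 : ℤ) * (σ (σ t)) ^ (0 : ℤ))
    rw [m2', m0, m0, mul_one, mul_one]
  · show (nrm σ t)⁻¹ = t ^ (-1 : ℤ) * ((σ t) ^ (-1 : ℤ) * (σ (σ t)) ^ (-1 : ℤ))
    rw [m1', m1', m1', nrm, mul_assoc, mul_inv, mul_inv]
  · show t * (shp σ t)⁻¹ = t ^ (1 : ℤ) * ((σ t) ^ (-1 : ℤ) * (σ (σ t)) ^ (-1 : ℤ))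
    rw [m1, m1', m1', shp, mul_inv]
  · show 1 = t ^ (0 : ℤ) * ((σ t) ^ (0 : ℤ) * (σ (σ t)) ^ (0 : ℤ))
    rw [m0, m0, m0, mul_one, mul_one]
  · show t⁻¹ * shp σ t = t ^ (-1 : ℤ) * ((σ t) ^ (1 : ℤ) * (σ (σ t)) ^ (1 : ℤ))
    rw [m1', m1, m1, shp]
  · show nrm σ t = t ^ (1 : ℤ) * ((σ t) ^ (1 : ℤ) * (σ (σ t)) ^ (1 : ℤ))
    rw [m1, m1, m1, nrm, mul_assoc]

/-- the root elements -/
def xx (σ : K ≃+* K) (k : ZMod 12) (a : K) : GL chevD4.Idx K :=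
  if k.val % 2 = 0 then xG (r0 k) a else xG (r0 k) a * (xG (r1 k) (σ a) * xG (r2 k) (σ (σ a)))

theorem xx_even (σ : K ≃+* K) {k : ZMod 12} (hk : k.val % 2 = 0) (a : K) : xx σ k a = xG (r0 k) a := if_pos hk

theorem xx_odd (σ : K ≃+* K) {k : ZMod 12} (hk : ¬ k.val % 2 = 0) (a : K) :
    xx σ k a = xG (r0 k) a * (xG (r1 k) (σ a) * xG (r2 k) (σ (σ a))) := if_neg hk

/-! ### Conjugation -/

theorem sgn (h2 : (2 : K) = 0) {e : ℤ} (he : e = 1 ∨ e = -1) (a : K) : (e : K) * a = a := by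
  rcases he with h | h
  · rw [h, Int.cast_one, one_mul]
  · rw [h, Int.cast_neg, Int.cast_one, neg_one_mul, neg_self h2]

theorem na_conj (h2 : (2 : K) = 0) {s : ℕ} (hs : s < 24) (t : K) :
    na K * xG s t * (na K)⁻¹ = xG (rfl' 1 s) t := by
  rw [na, nG_conj (by norm_num) hs, sgn h2 (eta_cases (by norm_num) hs)]

theorem nb_conj (h2 : (2 : K) = 0) {s : ℕ} (hs : s < 24) (t : K) :
    nb K * xG s t * (nb K)⁻¹ = xG (rb s) t := by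
  have e : nb K * xG s t * (nb K)⁻¹ =
      nG K 0 * (nG K 2 * (nG K 3 * xG s t * (nG K 3)⁻¹) * (nG K 2)⁻¹) * (nG K 0)⁻¹ := by
    rw [nb]; group
  have l3 := rfl'_lt (i := 3) (by norm_num) hs
  have l2 := rfl'_lt (i := 2) (by norm_num) l3
  rw [e, nG_conj (by norm_num) hs, sgn h2 (eta_cases (by norm_num) hs), nG_conj (by norm_num) l3,
    sgn h2 (eta_cases (by norm_num) l3), nG_conj (by norm_num) l2, sgn h2 (eta_cases (by norm_num) l2)]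
  rfl

theorem c3 {G : Type*} [Group G] (g a b c : G) :
    g * (a * (b * c)) * g⁻¹ = g * a * g⁻¹ * (g * b * g⁻¹ * (g * c * g⁻¹)) := by group

theorem na_xx (h2 : (2 : K) = 0) (σ : K ≃+* K) (k : ZMod 12) (a : K) :
    na K * xx σ k a * (na K)⁻¹ = xx σ (6 - k) a := by
  obtain ⟨l0, l1, l2⟩ := r_lt k
  obtain ⟨a0, a1, a2⟩ := r_a k
  by_cases hk : k.val % 2 = 0
  · rw [xx_even σ hk, xx_even σ (by rw [val_6_sub]; exact hk), na_conj h2 l0, a0]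
  · rw [xx_odd σ hk, xx_odd σ (by rw [val_6_sub]; exact hk), c3, na_conj h2 l0, na_conj h2 l1, na_conj h2 l2,
      a0, a1, a2]

theorem nb_xx (h2 : (2 : K) = 0) (σ : K ≃+* K) (k : ZMod 12) (a : K) :
    nb K * xx σ k a * (nb K)⁻¹ = xx σ (8 - k) a := by
  obtain ⟨l0, l1, l2⟩ := r_lt k
  obtain ⟨a0, a1, a2⟩ := r_b k
  by_cases hk : k.val % 2 = 0
  · rw [xx_even σ hk, xx_even σ (by rw [val_8_sub]; exact hk), nb_conj h2 l0, a0]
  · rw [xx_odd σ hk, xx_odd σ (by rw [val_8_sub]; exact hk), c3, nb_conj h2 l0, nb_conj h2 l1, nb_conj h2 l2,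
      a0, a1, a2]

/-! ### The positive root elements -/

theorem xx1 (σ : K ≃+* K) : xx σ 1 = X1 σ := by
  funext a
  rw [xx_odd σ (by decide), X1, w3_eq]
  rfl

theorem xx2 (σ : K ≃+* K) : xx σ 2 = (X2 : K → GL chevD4.Idx K) := by
  funext a
  rw [xx_even σ (by decide), X2, w1_eq]
  rfl

theorem xx3 (h2 : (2 : K) = 0) (σ : K ≃+* K) : xx σ 3 = X3 σ := by
  funext a
  rw [xx_odd σ (by decide), X3, w3_eq, neg_self h2]
  rfl

theorem xx4 (h2 : (2 : K) = 0) (σ : K ≃+* K) : xx σ 4 = (X4 : K → GL chevD4.Idx K) := by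
  funext a
  rw [xx_even σ (by decide), X4, w1_eq, neg_self h2]
  rfl

theorem xx5 (h2 : (2 : K) = 0) (σ : K ≃+* K) : xx σ 5 = X5 σ := by
  funext a
  rw [xx_odd σ (by decide), X5, w3_eq, neg_self h2, neg_self h2]
  rfl

theorem xx6 (σ : K ≃+* K) : xx σ 6 = (X6 : K → GL chevD4.Idx K) := by
  funext a
  rw [xx_even σ (by decide), X6, w1_eq]
  rfl

theorem rel (h2 : (2 : K) = 0) (σ : K ≃+* K) (h3 : ∀ a, σ (σ (σ a)) = a) :
    HexRel σ (xx σ 1) (xx σ 2) (xx σ 3) (xx σ 4) (xx σ 5) (xx σ 6) := by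
  rw [xx1, xx2, xx3 h2, xx4 h2, xx5 h2, xx6]
  exact hexRel σ h3

/-- induction over the roots -/
theorem induct (P : ZMod 12 → Prop) (h1 : P 1) (h6 : P 6) (ha : ∀ k, P k → P (6 - k)) (hb : ∀ k, P k → P (8 - k))
    (k : ZMod 12) : P k := by
  have p5 : P 5 := ha 1 h1
  have p3 : P 3 := hb 5 p5
  have p7 : P 7 := hb 1 h1
  have p11 : P 11 := ha 7 p7
  have p9 : P 9 := hb 11 p11
  have p2 : P 2 := hb 6 h6
  have p4 : P 4 := ha 2 p2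
  have p0 : P 0 := ha 6 h6
  have p8 : P 8 := hb 0 p0
  have p10 : P 10 := ha 8 p8
  rcases cases12 k with rfl | rfl | rfl | rfl | rfl | rfl | rfl | rfl | rfl | rfl | rfl | rfl
  exacts [p0, h1, p2, p3, p4, p5, h6, p7, p8, p9, p10, p11]

theorem xx_add (h2 : (2 : K) = 0) (σ : K ≃+* K) (h3 : ∀ a, σ (σ (σ a)) = a) (k : ZMod 12) :
    ∀ a b, xx σ k (a + b) = xx σ k a * xx σ k b := by
  refine induct (fun k => ∀ a b, xx σ k (a + b) = xx σ k a * xx σ k b) ?_ ?_ ?_ ?_ k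
  · exact (rel h2 σ h3).add1
  · intro a b
    rw [xx_even σ (by decide), xx_even σ (by decide), xx_even σ (by decide)]
    exact xG_add _ _ _
  · intro k h a b
    rw [← na_xx h2, ← na_xx h2, ← na_xx h2, h]
    group
  · intro k h a b
    rw [← nb_xx h2, ← nb_xx h2, ← nb_xx h2, h]
    group

theorem xx_zero (h2 : (2 : K) = 0) (σ : K ≃+* K) (h3 : ∀ a, σ (σ (σ a)) = a) (k : ZMod 12) : xx σ k 0 = 1 := by
  have h := xx_add h2 σ h3 k 0 0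
  rw [add_zero] at h
  exact left_eq_mul.1 h

theorem xx_sq (h2 : (2 : K) = 0) (σ : K ≃+* K) (h3 : ∀ a, σ (σ (σ a)) = a) (k : ZMod 12) (a : K) :
    xx σ k a * xx σ k a = 1 := by
  rw [← xx_add h2 σ h3, ← two_mul, h2, zero_mul, xx_zero h2 σ h3]

theorem xx_inj (h2 : (2 : K) = 0) (σ : K ≃+* K) (h3 : ∀ a, σ (σ (σ a)) = a) (k : ZMod 12) :
    ∀ a, xx σ k a = 1 → a = 0 := by
  refine induct (fun k => ∀ a, xx σ k a = 1 → a = 0) ?_ ?_ ?_ ?_ k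
  · intro a h
    rw [← xx_zero h2 σ h3 1, xx1] at h
    exact X1_inj σ h
  · intro a h
    rw [← xx_zero h2 σ h3 6, xx6] at h
    exact X6_inj h
  · intro k h a e
    apply h
    rw [← na_xx h2] at e
    have : xx σ k a = (na K)⁻¹ * (na K * xx σ k a * (na K)⁻¹) * na K := by group
    rw [this, e]
    group
  · intro k h a e
    apply h
    rw [← nb_xx h2] at e
    have : xx σ k a = (nb K)⁻¹ * (nb K * xx σ k a * (nb K)⁻¹) * nb K := by group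
    rw [this, e]
    group

/-! ### Reflections and torus -/

theorem X_eq (σ : K ≃+* K) (t : K) : D4Fixed.X (σ : K →+* K) t = xx σ 1 t := by
  rw [xx_odd σ (by decide), D4Fixed.X, xU_eq, xU_eq, xU_eq, mul_assoc]
  rfl

theorem Y_eq (σ : K ≃+* K) (t : K) : D4Fixed.Y (σ : K →+* K) t = xx σ 7 t := by
  rw [xx_odd σ (by decide), D4Fixed.Y, xU_eq, xU_eq, xU_eq, mul_assoc]
  rfl

theorem nt1_eq (h2 : (2 : K) = 0) (σ : K ≃+* K) (h3 : ∀ a, σ (σ (σ a)) = a) (t : K) :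
    nt (xx σ) 1 t = nbt (σ : K →+* K) t := by
  have h := Y_rank_one (σ : K →+* K) t⁻¹
  rw [inv_inv, X_eq, Y_eq, neg_self h2] at h
  unfold nt
  rw [show (1 : ZMod 12) + 6 = 7 by decide, h]
  have e := xx_sq h2 σ h3 1 t
  calc xx σ 1 t * (xx σ 1 t * (nbt (σ : K →+* K) t * xx σ 1 t)) * xx σ 1 t =
      (xx σ 1 t * xx σ 1 t) * nbt (σ : K →+* K) t * (xx σ 1 t * xx σ 1 t) := by group
    _ = _ := by rw [e, one_mul, mul_one]

theorem nn1_eq (h2 : (2 : K) = 0) (σ : K ≃+* K) (h3 : ∀ a, σ (σ (σ a)) = a) : nn (xx σ) 1 = nb K := by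
  rw [← HexTwo.nt_one, nt1_eq h2 σ h3, ← nb_eq]

theorem nb_sq (h2 : (2 : K) = 0) (σ : K ≃+* K) (h3 : ∀ a, σ (σ (σ a)) = a) : nb K * nb K = 1 := by
  rw [← nn1_eq h2 σ h3]
  unfold nn
  have e1 := xx_sq h2 σ h3 1 1
  have e2 := xx_sq h2 σ h3 (1 + 6) 1
  calc xx σ 1 1 * xx σ (1 + 6) 1 * xx σ 1 1 * (xx σ 1 1 * xx σ (1 + 6) 1 * xx σ 1 1) =
      xx σ 1 1 * (xx σ (1 + 6) 1 * (xx σ 1 1 * xx σ 1 1) * xx σ (1 + 6) 1) * xx σ 1 1 := by group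
    _ = 1 := by rw [e1, mul_one, e2, mul_one, e1]

theorem hh1_eq (h2 : (2 : K) = 0) (σ : K ≃+* K) (h3 : ∀ a, σ (σ (σ a)) = a) (t : K) :
    hh (xx σ) 1 t = hb (σ : K →+* K) t := by
  unfold hh
  rw [nt1_eq h2 σ h3, nn1_eq h2 σ h3, nbt_eq, mul_assoc, nb_sq h2 σ h3, mul_one]

theorem nt6_eq (h2 : (2 : K) = 0) (σ : K ≃+* K) (t : K) : nt (xx σ) 6 t = nR 14 t := by
  unfold nt
  rw [xx_even σ (by decide), xx_even σ (by decide), nR_def, neg_self h2, mul_assoc]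
  rfl

theorem nn6_eq (h2 : (2 : K) = 0) (σ : K ≃+* K) : nn (xx σ) 6 = na K := by
  rw [← HexTwo.nt_one, nt6_eq h2]
  rfl

theorem hh6_eq (h2 : (2 : K) = 0) (σ : K ≃+* K) (t : K) : hh (xx σ) 6 t = hR 14 t := by
  unfold hh
  rw [nt6_eq h2, ← HexTwo.nt_one, nt6_eq h2, hR_def, neg_self h2]

theorem hb_conj (σ : K ≃+* K) {t : K} (ht : t ≠ 0) {s : ℕ} (hs : s < 24) (u : K) :
    hb (σ : K →+* K) t * xG s u * (hb (σ : K →+* K) t)⁻¹ =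
      xG s (t ^ cartanRS chevD4 18 s * ((σ t) ^ cartanRS chevD4 13 s * ((σ (σ t)) ^ cartanRS chevD4 12 s * u))) := by
  have h1 : σ t ≠ 0 := (map_ne_zero σ).2 ht
  have h2 : σ (σ t) ≠ 0 := (map_ne_zero σ).2 h1
  have e : hb (σ : K →+* K) t * xG s u * (hb (σ : K →+* K) t)⁻¹ =
      hR 18 t * (hR 13 (σ t) * (hR 12 (σ (σ t)) * xG s u * (hR 12 (σ (σ t)))⁻¹) * (hR 13 (σ t))⁻¹) *
        (hR 18 t)⁻¹ := by
    unfold hb
    simp only [RingEquiv.coe_toRingHom, mul_inv_rev]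
    group
  rw [e, hR_conj (by norm_num) hs h2, hR_conj (by norm_num) hs h1, hR_conj (by norm_num) hs ht]

/-- **`³D₄` in characteristic two.** -/
theorem hexTwo (h2 : (2 : K) = 0) (σ : K ≃+* K) (h3 : ∀ a, σ (σ (σ a)) = a) :
    HexTwo σ (xx σ : ZMod 12 → K → GL chevD4.Idx K) where
  two := h2
  rel := rel h2 σ h3
  add k a b _ _ := xx_add h2 σ h3 k a b
  inj k a _ h := xx_inj h2 σ h3 k a h
  refl1 j a _ := by rw [nn1_eq h2 σ h3, nb_xx h2]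
  refl6 j a _ := by rw [nn6_eq h2, na_xx h2]
  tor1 t ht j a hj := by
    have h1 : σ t ≠ 0 := (map_ne_zero σ).2 ht
    have h1' : σ (σ t) ≠ 0 := (map_ne_zero σ).2 h1
    obtain ⟨l0, l1, l2⟩ := r_lt j
    obtain ⟨a0, a1, a2⟩ := A0 j
    rw [hh1_eq h2 σ h3, chS_eq ht]
    by_cases hk : j.val % 2 = 0
    · rw [xx_even σ hk, xx_even σ hk, hb_conj σ ht l0, a0, a1, a2]
      congr 1
      ring
    · have hk' : j.val % 2 = 1 := by omega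
      obtain ⟨b0, b1, b2⟩ := A1 j hk'
      obtain ⟨d0, d1, d2⟩ := A2 j hk'
      rw [xx_odd σ hk, xx_odd σ hk, c3, hb_conj σ ht l0, hb_conj σ ht l1, hb_conj σ ht l2, a0, a1, a2, b0, b1, b2,
        d0, d1, d2]
      simp only [map_mul, map_zpow₀, h3]
      refine congr_arg₂ _ (congr_arg _ ?_) (congr_arg₂ _ (congr_arg _ ?_) (congr_arg _ ?_)) <;> ring
  tor6 t ht hf j a hj := by
    obtain ⟨l0, l1, l2⟩ := r_lt j
    obtain ⟨a0, a1, a2⟩ := AL j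
    rw [hh6_eq h2, ← cL_eq]
    by_cases hk : j.val % 2 = 0
    · rw [xx_even σ hk, xx_even σ hk, hR_conj (by norm_num) l0 ht, a0]
    · rw [xx_odd σ hk, xx_odd σ hk, c3, hR_conj (by norm_num) l0 ht, hR_conj (by norm_num) l1 ht,
        hR_conj (by norm_num) l2 ht, a0, a1, a2]
      simp only [map_mul, map_zpow₀, hf]
  opp g h4 h5 := by
    have hp : g ∈ chevD4.posUnipotent K := by
      refine (Subgroup.closure_le _).2 ?_ h4
      rintro _ ⟨k, hk, a, _, rfl⟩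
      have key : ∀ k : ZMod 12, k = 1 ∨ k = 2 ∨ k = 3 ∨ k = 4 ∨ k = 5 ∨ k = 6 →
          12 ≤ r0 k ∧ 12 ≤ r1 k ∧ 12 ≤ r2 k := by decide +kernel
      obtain ⟨m0, m1, m2⟩ := key k hk
      obtain ⟨l0, l1, l2⟩ := r_lt k
      have hx : ∀ {r : ℕ}, 12 ≤ r → r < 24 → ∀ a : K, xG r a ∈ chevD4.posUnipotent K := fun h h' a =>
        Subgroup.subset_closure ⟨_, a, (isPosRoot_iff _).2 ⟨h, h'⟩, coe_xG _ _⟩
      unfold xx
      split_ifs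
      · exact hx m0 l0 a
      · exact mul_mem (hx m0 l0 _) (mul_mem (hx m1 l1 _) (hx m2 l2 _))
    have hn : g ∈ chevD4.negUnipotent K := by
      refine (Subgroup.closure_le _).2 ?_ h5
      rintro _ ⟨k, hk, a, _, rfl⟩
      have key : ∀ k : ZMod 12, k = 7 ∨ k = 8 ∨ k = 9 ∨ k = 10 ∨ k = 11 ∨ k = 0 →
          r0 k < 12 ∧ r1 k < 12 ∧ r2 k < 12 := by decide +kernel
      obtain ⟨m0, m1, m2⟩ := key k hk
      have hx : ∀ {r : ℕ}, r < 12 → ∀ a : K, xG r a ∈ chevD4.negUnipotent K := fun h a =>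
        Subgroup.subset_closure ⟨_, a, (isNegRoot_iff _).2 h, coe_xG _ _⟩
      unfold xx
      split_ifs
      · exact hx m0 a
      · exact mul_mem (hx m0 _) (mul_mem (hx m1 _) (hx m2 _))
    have h1 := (S1037.result (F := K) chevD4 (by simp)).1
    have h6 : g ∈ chevD4.borelSubgroup K ⊓ chevD4.negUnipotent K := ⟨Subgroup.mem_sup_left hp, hn⟩
    rwa [h1, Subgroup.mem_bot] at h6

end Cfsg.Agent.HexModel.D4
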