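import Cfsg.Agent.StdRank2.HexTwo
import Cfsg.Agent.Hexagon.G2Par
import Cfsg.Agent.S1037

/-!
# The model `G₂(F)` of `HexTwo` in characteristic two
-/

set_option autoImplicit false

namespace Cfsg.Agent.HexModel.G2

open Cfsg.Lie Cfsg.Agent.StdRank2.Hex Cfsg.Agent.SplitTwo
open Cfsg.Agent.ChevalleyStructure.WordCheck
open Cfsg.Agent.ChevalleyStructure.G2N (xG coe_xG xG_add xG_zero xG_neg nG conj_x W E E_cast)
open Cfsg.Agent.Hexagon.G2Rel (wordG wordG_cons wordG_nil wordG_append coe_wordG wval_append Y1 Y2 Y3 Y4 Y5 Y6)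
open Cfsg.Agent.Hexagon.G2Par (xG_inj xG_mem y1 y2 y3 y4 y5 y6 hexRel')
open PExpr

/-- the root with number `k` in the cyclic order -/
def tab (k : ZMod 12) : ℕ := [5, 7, 10, 9, 11, 8, 6, 4, 1, 2, 0, 3].getD k.val 0

theorem tab_lt : ∀ k : ZMod 12, tab k < 12 := by decide +kernel

theorem tab_opp : ∀ k : ZMod 12, tab (k + 6) = 11 - tab k := by decide +kernel

theorem tab_I : ∀ k : ZMod 12, W 7 (tab k) = tab (8 - k) := by decide +kernel

theorem tab_J : ∀ k : ZMod 12, W 6 (tab k) = tab (6 - k) := by decide +kernel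

/-- exponents of the characters of `h_1`, `h_6` -/
def cS (d : ZMod 12) : ℤ := [2, 3, 1, 0, -1, -3, -2, -3, -1, 0, 1, 3].getD d.val 0
def cL (d : ZMod 12) : ℤ := [2, 1, 1, 0, -1, -1, -2, -1, -1, 0, 1, 1].getD d.val 0

/-- power of variable `0` (inverse: variable `1`) -/
def pw (z : ℤ) : PExpr := match z with
  | Int.ofNat n => .pow (.var 0) n
  | Int.negSucc n => .pow (.var 1) (n + 1)

/-- `n_r(t)` for the root number `r` -/
def ntW (r : ℕ) : List (ℕ × PExpr) := [(r, .var 0), (11 - r, .var 1), (r, .var 0)]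
def nnW (r : ℕ) : List (ℕ × PExpr) := [(r, .const 1), (11 - r, .const 1), (r, .const 1)]

theorem chk1 : ∀ k : ZMod 12, check chevG2 2 1 3 (xw (ntW 7 ++ (nnW 7 ++ [(tab k, .var 2)])))
    (xw ([(tab k, .mul (pw (cS (k - 1))) (.var 2))] ++ (ntW 7 ++ nnW 7))) = true := by
  decide +kernel

theorem chk6 : ∀ k : ZMod 12, check chevG2 2 1 3 (xw (ntW 6 ++ (nnW 6 ++ [(tab k, .var 2)])))
    (xw ([(tab k, .mul (pw (cL (k - 6))) (.var 2))] ++ (ntW 6 ++ nnW 6))) = true := by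
  decide +kernel

variable {K : Type*} [Field K]

/-- the root elements -/
def xx (k : ZMod 12) (a : K) : ↥(chevG2.group K) := ⟨xG (tab k) a, xG_mem (tab_lt k) a⟩

theorem coe_xx (k : ZMod 12) (a : K) : ((xx k a : ↥(chevG2.group K)) : GL chevG2.Idx K) = xG (tab k) a := rfl

theorem neg_self (h2 : (2 : K) = 0) (a : K) : -a = a := by
  have : a + a = 0 := by rw [← two_mul, h2, zero_mul]
  exact neg_eq_of_add_eq_zero_left this

theorem sgn (h2 : (2 : K) = 0) {e : ℤ} (he : (e : K) = 1 ∨ (e : K) = -1) (a : K) : (e : K) * a = a := by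
  rcases he with h | h
  · rw [h, one_mul]
  · rw [h, neg_one_mul, neg_self h2]

theorem coe_nn (h2 : (2 : K) = 0) (k : ZMod 12) :
    ((nn (xx : ZMod 12 → K → ↥(chevG2.group K)) k : ↥(chevG2.group K)) : GL chevG2.Idx K) = nG (tab k) 1 := by
  unfold nn nG
  rw [Subgroup.coe_mul, Subgroup.coe_mul, coe_xx, coe_xx, tab_opp,
    Cfsg.Agent.ChevalleyStructure.G2N.neg_eq (tab_lt k), inv_one, neg_self h2]

/-- the assignment of the variables -/
def rho (t u : K) : ℕ → K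
  | 0 => t
  | 1 => t⁻¹
  | _ => u

theorem pw_val {t : K} (_ : t ≠ 0) (u : K) (z : ℤ) : (pw z).denote (rho t u) = t ^ z := by
  cases z with
  | ofNat n => simp [pw, PExpr.denote, rho]
  | negSucc n => simp [pw, PExpr.denote, rho, zpow_negSucc]

theorem wordG_val3 (ρ : ℕ → K) (r : ℕ) (e f : PExpr) :
    (wordG (wval ρ [(r, e), (11 - r, f), (r, e)]) : GL chevG2.Idx K) =
      xG r (e.denote ρ) * xG (11 - r) (f.denote ρ) * xG r (e.denote ρ) := by
  show wordG [(r, e.denote ρ), (11 - r, f.denote ρ), (r, e.denote ρ)] = _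
  rw [wordG_cons, wordG_cons, wordG_cons, wordG_nil, mul_one, mul_assoc]

theorem hh_of_check (h2 : (2 : K) = 0) {k j : ZMod 12} {z : ℤ}
    (h : check chevG2 2 1 3 (xw (ntW (tab k) ++ (nnW (tab k) ++ [(tab j, .var 2)])))
      (xw ([(tab j, .mul (pw z) (.var 2))] ++ (ntW (tab k) ++ nnW (tab k)))) = true) {t : K} (ht : t ≠ 0) (a : K) :
    hh (xx : ZMod 12 → K → ↥(chevG2.group K)) k t * xx j a * (hh (xx : ZMod 12 → K → ↥(chevG2.group K)) k t)⁻¹ =
      xx j (t ^ z * a) := by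
  rw [mul_inv_eq_iff_eq_mul]
  apply Subtype.ext
  have h1 := wordMat_eq_of_check chevG2 (rho t a) 2 1 3 _ _ h (by exact_mod_cast h2) (by
    intro i hi
    have : i = 0 := by omega
    subst this
    exact mul_inv_cancel₀ ht)
  rw [← coe_wordG, ← coe_wordG] at h1
  have h3 := Units.ext h1
  rw [wval_append, wval_append, wval_append, wval_append, wordG_append, wordG_append, wordG_append, wordG_append,
    ntW, nnW, wordG_val3, wordG_val3] at h3
  have e1 : (wordG (wval (rho t a) [(tab j, PExpr.var 2)]) : GL chevG2.Idx K) = xG (tab j) a := by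
    show wordG [(tab j, a)] = _
    rw [wordG_cons, wordG_nil, mul_one]
  have e2 : (wordG (wval (rho t a) [(tab j, PExpr.mul (pw z) (.var 2))]) : GL chevG2.Idx K) =
      xG (tab j) (t ^ z * a) := by
    show wordG [(tab j, (PExpr.mul (pw z) (.var 2)).denote (rho t a))] = _
    rw [wordG_cons, wordG_nil, mul_one]
    simp only [PExpr.denote]
    rw [pw_val ht]
    rfl
  rw [e1, e2] at h3
  have d0 : (PExpr.var 0).denote (rho t a) = t := rfl
  have d1 : (PExpr.var 1).denote (rho t a) = t⁻¹ := rfl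
  have d2 : (PExpr.const 1).denote (rho t a) = 1 := by simp [PExpr.denote]
  rw [d0, d1, d2] at h3
  unfold hh nt nn
  simp only [Subgroup.coe_mul, coe_xx, tab_opp]
  rw [← mul_assoc] at h3
  exact h3

theorem cases12 : ∀ d : ZMod 12, d = 0 ∨ d = 1 ∨ d = 2 ∨ d = 3 ∨ d = 4 ∨ d = 5 ∨ d = 6 ∨ d = 7 ∨ d = 8 ∨ d = 9 ∨
    d = 10 ∨ d = 11 := by
  decide

theorem cS_eq {t : K} (ht : t ≠ 0) (d : ZMod 12) : t ^ cS d = chS (RingEquiv.refl K) d t := by
  rcases cases12 d with rfl | rfl | rfl | rfl | rfl | rfl | rfl | rfl | rfl | rfl | rfl | rfl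
  · show t ^ (2 : ℤ) = t ^ 2
    exact zpow_ofNat t 2
  · show t ^ (3 : ℤ) = t * t * t
    rw [show (3 : ℤ) = ((3 : ℕ) : ℤ) from rfl, zpow_natCast]; ring
  · show t ^ (1 : ℤ) = t⁻¹ * (t * t)
    rw [zpow_one]; field_simp
  · show t ^ (0 : ℤ) = 1
    exact zpow_zero t
  · show t ^ (-1 : ℤ) = t * (t * t)⁻¹
    rw [zpow_neg_one]; field_simp
  · show t ^ (-3 : ℤ) = (t * t * t)⁻¹
    rw [zpow_neg, show (3 : ℤ) = ((3 : ℕ) : ℤ) from rfl, zpow_natCast]; ring
  · show t ^ (-2 : ℤ) = (t ^ 2)⁻¹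
    rw [zpow_neg, show (2 : ℤ) = ((2 : ℕ) : ℤ) from rfl, zpow_natCast]
  · show t ^ (-3 : ℤ) = (t * t * t)⁻¹
    rw [zpow_neg, show (3 : ℤ) = ((3 : ℕ) : ℤ) from rfl, zpow_natCast]; ring
  · show t ^ (-1 : ℤ) = t * (t * t)⁻¹
    rw [zpow_neg_one]; field_simp
  · show t ^ (0 : ℤ) = 1
    exact zpow_zero t
  · show t ^ (1 : ℤ) = t⁻¹ * (t * t)
    rw [zpow_one]; field_simp
  · show t ^ (3 : ℤ) = t * t * t
    rw [show (3 : ℤ) = ((3 : ℕ) : ℤ) from rfl, zpow_natCast]; ring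

theorem cL_eq (t : K) (d : ZMod 12) : t ^ cL d = chL d t := by
  rcases cases12 d with rfl | rfl | rfl | rfl | rfl | rfl | rfl | rfl | rfl | rfl | rfl | rfl
  · show t ^ (2 : ℤ) = t ^ 2
    exact zpow_ofNat t 2
  · exact zpow_one t
  · exact zpow_one t
  · exact zpow_zero t
  · exact zpow_neg_one t
  · exact zpow_neg_one t
  · show t ^ (-2 : ℤ) = (t ^ 2)⁻¹
    rw [zpow_neg, show (2 : ℤ) = ((2 : ℕ) : ℤ) from rfl, zpow_natCast]
  · exact zpow_neg_one t
  · exact zpow_neg_one t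
  · exact zpow_zero t
  · exact zpow_one t
  · exact zpow_one t

theorem refl_rel (h2 : (2 : K) = 0) : HexRel (RingEquiv.refl K) (xx 1 : K → ↥(chevG2.group K)) (xx 2) (xx 3) (xx 4)
    (xx 5) (xx 6) := by
  have h := hexRel' (K := K)
  have q2 : (y2 : K → ↥(chevG2.group K)) = xx 2 := by
    funext t
    apply Subtype.ext
    show xG 10 (-t) = xG 10 t
    rw [neg_self h2]
  have q3 : (y3 : K → ↥(chevG2.group K)) = xx 3 := by
    funext t
    apply Subtype.ext
    show xG 9 (-t) = xG 9 t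
    rw [neg_self h2]
  rw [q2, q3] at h
  exact h

theorem pos_of : ∀ k : ZMod 12, k = 1 ∨ k = 2 ∨ k = 3 ∨ k = 4 ∨ k = 5 ∨ k = 6 → chevG2.IsPosRoot (tab k) := by
  decide +kernel

theorem neg_of : ∀ k : ZMod 12, k = 7 ∨ k = 8 ∨ k = 9 ∨ k = 10 ∨ k = 11 ∨ k = 0 → chevG2.IsNegRoot (tab k) := by
  decide +kernel

theorem opp (g : ↥(chevG2.group K))
    (h3 : g ∈ Subgroup.closure {y : ↥(chevG2.group K) | ∃ k ∈ ({1, 2, 3, 4, 5, 6} : Set (ZMod 12)),
      ∃ a, Ok (RingEquiv.refl K) k a ∧ y = xx k a})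
    (h4 : g ∈ Subgroup.closure {y : ↥(chevG2.group K) | ∃ k ∈ ({7, 8, 9, 10, 11, 0} : Set (ZMod 12)),
      ∃ a, Ok (RingEquiv.refl K) k a ∧ y = xx k a}) : g = 1 := by
  have hp : (g : GL chevG2.Idx K) ∈ chevG2.posUnipotent K := by
    have : Subgroup.closure {y : ↥(chevG2.group K) | ∃ k ∈ ({1, 2, 3, 4, 5, 6} : Set (ZMod 12)),
        ∃ a, Ok (RingEquiv.refl K) k a ∧ y = xx k a} ≤ (chevG2.posUnipotent K).subgroupOf (chevG2.group K) := by
      rw [Subgroup.closure_le]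
      rintro _ ⟨k, hk, a, _, rfl⟩
      exact Subgroup.subset_closure ⟨tab k, a, pos_of k hk, coe_xG _ _⟩
    exact this h3
  have hn : (g : GL chevG2.Idx K) ∈ chevG2.negUnipotent K := by
    have : Subgroup.closure {y : ↥(chevG2.group K) | ∃ k ∈ ({7, 8, 9, 10, 11, 0} : Set (ZMod 12)),
        ∃ a, Ok (RingEquiv.refl K) k a ∧ y = xx k a} ≤ (chevG2.negUnipotent K).subgroupOf (chevG2.group K) := by
      rw [Subgroup.closure_le]
      rintro _ ⟨k, hk, a, _, rfl⟩
      exact Subgroup.subset_closure ⟨tab k, a, neg_of k hk, coe_xG _ _⟩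
    exact this h4
  have h1 := (S1037.result (F := K) chevG2 (by simp)).1
  have h5 : (g : GL chevG2.Idx K) ∈ chevG2.borelSubgroup K ⊓ chevG2.negUnipotent K :=
    ⟨Subgroup.mem_sup_left hp, hn⟩
  rw [h1, Subgroup.mem_bot] at h5
  exact Subtype.ext h5

/-- **`G₂(K)` in characteristic two.** -/
theorem hexTwo (h2 : (2 : K) = 0) : HexTwo (RingEquiv.refl K) (xx : ZMod 12 → K → ↥(chevG2.group K)) where
  two := h2
  rel := refl_rel h2
  add k a b _ _ := Subtype.ext (xG_add _ _ _)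
  inj k a _ h := by
    have h1 : (xG (tab k) a : GL chevG2.Idx K) = xG (tab k) 0 := by
      rw [xG_zero]
      exact congrArg Subtype.val h
    exact xG_inj (tab_lt k) h1
  refl1 j a _ := by
    apply Subtype.ext
    rw [Subgroup.coe_mul, Subgroup.coe_mul, Subgroup.coe_inv, coe_nn h2, coe_xx]
    show nG 7 1 * _ * (nG 7 1)⁻¹ = _
    rw [conj_x (Or.inl rfl) (tab_lt j), tab_I, sgn h2 (E_cast _ _ (by norm_num) (tab_lt j))]
    rfl
  refl6 j a _ := by
    apply Subtype.ext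
    rw [Subgroup.coe_mul, Subgroup.coe_mul, Subgroup.coe_inv, coe_nn h2, coe_xx]
    show nG 6 1 * _ * (nG 6 1)⁻¹ = _
    rw [conj_x (Or.inr rfl) (tab_lt j), tab_J, sgn h2 (E_cast _ _ (by norm_num) (tab_lt j))]
    rfl
  tor1 t ht j a _ := by
    rw [hh_of_check (k := 1) (z := cS (j - 1)) h2 (chk1 j) ht a, cS_eq ht]
  tor6 t ht _ j a _ := by
    rw [hh_of_check (k := 6) (z := cL (j - 6)) h2 (chk6 j) ht a, cL_eq]
  opp := opp

/-- the root elements generate -/
theorem gen_top : Subgroup.closure {y : ↥(chevG2.group K) | ∃ k : ZMod 12, ∃ a, y = xx k a} = ⊤ := by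
  rw [eq_top_iff]
  have key : chevG2.group K ≤
      (Subgroup.closure {y : ↥(chevG2.group K) | ∃ k : ZMod 12, ∃ a, y = xx k a}).map (chevG2.group K).subtype := by
    unfold ChevalleyDatum.group
    rw [Subgroup.closure_le]
    rintro g ⟨r, t, hg⟩
    have hr : ∃ k : ZMod 12, tab k = (r : ℕ) := by
      have : ∀ r : Fin 12, ∃ k : ZMod 12, tab k = (r : ℕ) := by decide +kernel
      exact this r
    obtain ⟨k, hk⟩ := hr
    refine ⟨xx k t, Subgroup.subset_closure ⟨k, t, rfl⟩, ?_⟩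
    apply Units.ext
    show ((xG (tab k) t : GL chevG2.Idx K) : Matrix chevG2.Idx chevG2.Idx K) = g
    rw [coe_xG, hg, hk]
    exact dif_pos r.2
  rintro g -
  obtain ⟨g', hg', h⟩ := key g.2
  have : g' = g := Subtype.ext h
  rw [← this]
  exact hg'

end Cfsg.Agent.HexModel.G2
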