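import Cfsg.Agent.HexModel.D4
import Cfsg.Agent.StdRank2.HexMap
import Cfsg.Agent.StdRank2.HexLift
import Cfsg.Agent.HexRec.FixedField

/-!
# `HexTwo` in `G₂(q)`, `³D₄(q)`, `q` even, and in their odd central extensions
-/

set_option autoImplicit false

namespace Cfsg.Agent.HexModel.Main

open Cfsg.Lie Cfsg.Agent.StdRank2.Hex Cfsg.Agent.StdRank2.Hex.HexTwo Cfsg.Agent.SplitTwo
open Cfsg.Agent.ChevalleyStructure
open Cfsg.Agent.ChevalleyStructure.D4Comm
open Cfsg.Agent.ChevalleyStructure.D4U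
open Cfsg.Agent.HexRec.FixedField

/-! ### `G₂` -/

section G2

variable {F : Type*} [Field F]

theorem g2_top : AA (RingEquiv.refl F) (G2.xx : ZMod 12 → F → ↥(chevG2.group F)) = ⊤ := by
  rw [eq_top_iff, ← G2.gen_top]
  unfold AA gen
  apply Subgroup.closure_mono
  rintro _ ⟨k, a, rfl⟩
  exact ⟨k, Set.mem_univ _, a, fun _ => rfl, rfl⟩

end G2

/-! ### `³D₄` -/

section D4

variable {K : Type*} [Field K] {q : ℕ} {σ : K ≃+* K} (hσ : ∀ c, σ c = c ^ q)

include hσ

theorem xx1_mem (a : K) : D4.xx σ 1 a ∈ twistedD4 K q := by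
  rw [← D4.X_eq]
  exact D4Fixed.X_mem (φ := (σ : K →+* K)) hσ a

theorem xx6_mem {a : K} (ha : σ a = a) : D4.xx σ 6 a ∈ twistedD4 K q := by
  rw [D4.xx_even σ (by decide)]
  have := D4Fixed.x14_mem (K := K) (q := q) (t := a) ((hσ a).symm.trans ha)
  rwa [xU_eq] at this

theorem xx_mem (h2 : (2 : K) = 0) (k : ZMod 12) : ∀ a, Ok σ k a → D4.xx σ k a ∈ twistedD4 K q := by
  refine D4.induct (fun k => ∀ a, Ok σ k a → D4.xx σ k a ∈ twistedD4 K q) ?_ ?_ ?_ ?_ k
  · exact fun a _ => xx1_mem hσ a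
  · exact fun a ha => xx6_mem hσ (ha (by decide))
  · intro k h a ha
    rw [← D4.na_xx h2]
    have hn := na_mem (K := K) (q := q) (φ := (σ : K →+* K)) hσ
    exact mul_mem (mul_mem hn (h a (ha.congr (val_6_sub k).symm))) (inv_mem hn)
  · intro k h a ha
    rw [← D4.nb_xx h2]
    have hn := nb_mem (K := K) (q := q) (φ := (σ : K →+* K)) hσ
    exact mul_mem (mul_mem hn (h a (ha.congr (val_8_sub k).symm))) (inv_mem hn)

omit hσ in
open Classical in
/-- the root elements of `³D₄(q)` -/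
noncomputable def yy (σ : K ≃+* K) (q : ℕ) (k : ZMod 12) (a : K) : ↥(twistedD4 K q) :=
  if h : D4.xx σ k a ∈ twistedD4 K q then ⟨D4.xx σ k a, h⟩ else 1

theorem coe_yy (h2 : (2 : K) = 0) {k : ZMod 12} {a : K} (ha : Ok σ k a) :
    ((yy σ q k a : ↥(twistedD4 K q)) : GL chevD4.Idx K) = D4.xx σ k a := by
  unfold yy
  rw [dif_pos (xx_mem hσ h2 k a ha)]

theorem d4_hexTwo (h2 : (2 : K) = 0) (h3 : ∀ a, σ (σ (σ a)) = a) : HexTwo σ (yy σ q) :=
  (D4.hexTwo h2 σ h3).comap (twistedD4 K q).subtype (Subgroup.subtype_injective _) fun _ _ ha => (coe_yy hσ h2 ha).symm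

theorem d4_top (h2 : (2 : K) = 0) : AA σ (yy σ q) = ⊤ := by
  have key : twistedD4 K q ≤ (AA σ (yy σ q)).map (twistedD4 K q).subtype := by
    have hin : ∀ (k : ZMod 12) (a : K), Ok σ k a → D4.xx σ k a ∈ (AA σ (yy σ q)).map (twistedD4 K q).subtype :=
      fun k a ha => ⟨yy σ q k a, x_mem_AA ha, coe_yy hσ h2 ha⟩
    refine D4Fixed.twisted_induction (φ := (σ : K →+* K)) hσ (fun t ht => ?_) (fun t ht => ?_) (fun t => ?_)
      (fun t => ?_)
    · have := hin 6 t (fun _ => ht)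
      rw [D4.xx_even σ (by decide)] at this
      rw [xU_eq]
      exact this
    · have := hin 0 t (fun _ => ht)
      rw [D4.xx_even σ (by decide)] at this
      rw [xU_eq]
      exact this
    · rw [D4.X_eq]
      exact hin 1 t (ok_odd (by decide) t)
    · rw [D4.Y_eq]
      exact hin 7 t (ok_odd (by decide) t)
  rw [eq_top_iff]
  rintro g -
  obtain ⟨g', hg', h⟩ := key g.2
  have : g' = g := Subtype.ext h
  rw [← this]
  exact hg'

end D4

section Field

variable {K : Type*} [Field K] [Fintype K]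

theorem two_eq_zero {n : ℕ} (hK : Fintype.card K = 2 ^ n) : (2 : K) = 0 := by
  have h1 : ((Fintype.card K : ℕ) : K) = 0 := FiniteField.cast_card_eq_zero K
  rw [hK, Nat.cast_pow] at h1
  exact_mod_cast eq_zero_of_pow_eq_zero h1

/-- the automorphism `c ↦ c ^ q` of the field with `q³` elements -/
theorem exists_sigma {a : ℕ} (ha : 1 ≤ a) (hK : Fintype.card K = 8 ^ a) :
    ∃ σ : K ≃+* K, (∀ c, σ c = c ^ 2 ^ a) ∧ (∀ c, σ (σ (σ c)) = c) ∧ (∃ c, σ c ≠ c) ∧
      Nat.card {c : K // σ c = c} = 2 ^ a := by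
  have hK3 : Fintype.card K = (2 ^ a) ^ 3 := by
    rw [hK, ← pow_mul, mul_comm, pow_mul]
    norm_num
  have hq : IsPrimePow (2 ^ a) := ⟨2, a, Nat.prime_two.prime, ha, rfl⟩
  obtain ⟨φ, hφ⟩ := D4Fixed.exists_frob hq hK3
  let σ : K ≃+* K := RingEquiv.ofBijective φ ⟨φ.injective, Finite.surjective_of_injective φ.injective⟩
  have hσ : ∀ c, σ c = c ^ 2 ^ a := hφ
  have h3 : ∀ c, σ (σ (σ c)) = c := by
    intro c
    rw [hσ, hσ, hσ, ← pow_mul, ← pow_mul, ← pow_two, ← pow_succ', ← hK3]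
    exact FiniteField.pow_card c
  have hne : ∃ c, σ c ≠ c := by
    by_contra hcon
    push Not at hcon
    have h1 : ∀ c : K, c ^ 2 ^ a = c := fun c => by rw [← hσ, hcon]
    have h2 : Fintype.card K ≤ 2 ^ a := by
      have hp : (Polynomial.X ^ (2 ^ a) - Polynomial.X : Polynomial K) ≠ 0 :=
        FiniteField.X_pow_card_sub_X_ne_zero K (Nat.one_lt_two_pow (by omega))
      have h3 : (Finset.univ : Finset K).val ⊆ (Polynomial.X ^ (2 ^ a) - Polynomial.X : Polynomial K).roots := by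
        intro c _
        rw [Polynomial.mem_roots hp]
        simp [h1]
      have h4 : (Finset.univ : Finset K).card ≤ (Polynomial.X ^ (2 ^ a) - Polynomial.X : Polynomial K).roots.card := by
        apply Multiset.card_le_card
        rw [Multiset.le_iff_subset Finset.univ.nodup]
        exact h3
      have h5 := Polynomial.card_roots' (Polynomial.X ^ (2 ^ a) - Polynomial.X : Polynomial K)
      rw [FiniteField.X_pow_card_sub_X_natDegree_eq K (Nat.one_lt_two_pow (by omega))] at h5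
      rw [Finset.card_univ] at h4
      exact h4.trans h5
    rw [hK3] at h2
    have h3 : 2 ^ a < (2 ^ a) ^ 3 := by
      have : 1 < 2 ^ a := Nat.one_lt_two_pow (by omega)
      calc 2 ^ a = (2 ^ a) ^ 1 := (pow_one _).symm
        _ < (2 ^ a) ^ 3 := Nat.pow_lt_pow_right this (by norm_num)
    omega
  refine ⟨σ, hσ, h3, hne, ?_⟩
  have h4 := finrank_eq σ h3 hne
  have h5 : Nat.card K = Nat.card (Fx σ) ^ 3 := by
    rw [← h4]
    exact Module.natCard_eq_pow_finrank (K := Fx σ) (V := K)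
  have h6 : Nat.card {c : K // σ c = c} = Nat.card (Fx σ) :=
    Nat.card_congr (Equiv.subtypeEquivRight fun c => (mem_Fx σ).symm)
  rw [h6]
  rw [Nat.card_eq_fintype_card, hK3] at h5
  exact (Nat.pow_left_injective (n := 3) (by norm_num) h5).symm

end Field

/-! ### Odd central extensions -/

variable {G : Type*} [Group G] [Finite G] (A : Subgroup G)

/-- **Type `G₂(q)`.** -/
theorem of_G2 {F : Type*} [Field F] [Fintype F] {a : ℕ} (hc : Fintype.card F = 2 ^ a)
    (hZ : Odd (Nat.card (Subgroup.center ↥A))) (hp : commutator ↥A = ⊤)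
    (e : (↥A ⧸ Subgroup.center ↥A) ≃* ↥(chevG2.group F)) :
    ∃ x : ZMod 12 → F → G, HexTwo (RingEquiv.refl F) x ∧ AA (RingEquiv.refl F) x = A :=
  exists_hexTwo A hZ hp e (G2.hexTwo (two_eq_zero hc)) g2_top

/-- **Type `³D₄(q)`.** -/
theorem of_D4 {K : Type*} [Field K] [Fintype K] {a : ℕ} (ha : 1 ≤ a) (hc : Fintype.card K = 8 ^ a)
    (hZ : Odd (Nat.card (Subgroup.center ↥A))) (hp : commutator ↥A = ⊤)
    (e : (↥A ⧸ Subgroup.center ↥A) ≃* ↥(twistedD4 K (2 ^ a))) :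
    ∃ (σ : K ≃+* K) (x : ZMod 12 → K → G), (∀ c, σ c = c ^ 2 ^ a) ∧ (∀ c, σ (σ (σ c)) = c) ∧ (∃ c, σ c ≠ c) ∧
      Nat.card {c : K // σ c = c} = 2 ^ a ∧ HexTwo σ x ∧ AA σ x = A := by
  obtain ⟨σ, hσ, h3, hne, hf⟩ := exists_sigma ha hc
  have h2 : (2 : K) = 0 := by
    apply two_eq_zero (n := 3 * a)
    rw [hc, pow_mul]
    norm_num
  obtain ⟨x, hx, hA⟩ := exists_hexTwo A hZ hp e (d4_hexTwo hσ h2 h3) (d4_top hσ h2)
  exact ⟨σ, x, hσ, h3, hne, hf, hx, hA⟩

end Cfsg.Agent.HexModel.Main
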